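import Groth.Agent.Lib.TruncPoly23.Basic
import Mathlib.RingTheory.MvPolynomial.Basic
import Mathlib.RingTheory.FiniteType
import Mathlib.RingTheory.Ideal.Quotient.Operations
import Mathlib.Algebra.CharP.Basic
import Mathlib.Data.Finset.Sym
import Mathlib.Data.Sym.Card
import Mathlib.Data.Finsupp.Multiset
import Mathlib.RingTheory.Finiteness.Basic
import Mathlib.LinearAlgebra.FiniteDimensional.Lemmas
import Mathlib.Data.Fintype.Pi

/-!
# Truncated polynomial presentations and the dimensions of the infinitesimal neighbourhoods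
-/

universe u v w

open TensorProduct

noncomputable section

namespace Groth.Agent.TruncPoly23

variable {k : Type u} [Field k] {A : Type v} [CommRing A] [Bialgebra k A]

theorem finite_cotangent [IsNoetherianRing A] : Module.Finite k (aug k A).Cotangent := by
  classical
  obtain ⟨s, hs⟩ := (Module.Finite.of_surjective _ (aug k A).toCotangent_surjective :
    Module.Finite A (aug k A).Cotangent).fg_top
  refine ⟨⟨s, top_le_iff.1 fun t _ => ?_⟩⟩
  have ht : t ∈ Submodule.span A (s : Set (aug k A).Cotangent) := by rw [hs]; trivial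
  refine Submodule.span_induction (p := fun z _ => z ∈ Submodule.span k (s : Set (aug k A).Cotangent))
    (fun z hz => Submodule.subset_span hz) (zero_mem _) (fun _ _ _ _ => add_mem) ?_ ht
  intro a z _ hz
  obtain ⟨y, rfl⟩ := Ideal.toCotangent_surjective _ z
  have : a • (aug k A).toCotangent y = Bialgebra.counitAlgHom k A a • (aug k A).toCotangent y := by
    rw [← algebraMap_smul A (Bialgebra.counitAlgHom k A a) ((aug k A).toCotangent y), ← sub_eq_zero,
      ← sub_smul, ← map_smul, Ideal.toCotangent_eq_zero, pow_two]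
    exact Ideal.mul_mem_mul (sub_counit_mem a) y.2
  rw [this]
  exact Submodule.smul_mem _ _ hz

variable {ι : Type w} [Fintype ι] (b : Module.Basis ι k (aug k A).Cotangent)

/-- The combination of monomials, modulo an ideal. -/
def combo (J : Ideal A) (S : Finset (ι → ℕ)) : (S → k) →ₗ[k] A ⧸ J :=
  Fintype.linearCombination k fun m : S => Ideal.Quotient.mk J (mono b m.1)

theorem range_combo (J : Ideal A) (S : Finset (ι → ℕ)) :
    LinearMap.range (combo b J S) = (monoSpan b (S : Set (ι → ℕ))).map (Ideal.Quotient.mkₐ k J).toLinearMap := by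
  rw [combo, Fintype.range_linearCombination, Submodule.map_span, ← Set.image_comp]
  congr 1
  ext y
  simp

variable (p : ℕ)

/-- Exponents below `p`. -/
def box [DecidableEq ι] : Finset (ι → ℕ) := Fintype.piFinset fun _ => Finset.range p

theorem mem_box [DecidableEq ι] {m : ι → ℕ} : m ∈ box p ↔ ∀ i, m i < p := by simp [box]

theorem combo_box_bijective [DecidableEq ι] [Fact p.Prime] [CharP k p] (J : Ideal A) (hJ : J ≤ aug k A)
    (hDJ : ∀ i, ∀ a ∈ J, der b i a ∈ J) (hp : ∀ i, gen b i ^ p ∈ J) (hN : ∃ N, aug k A ^ N ≤ J) :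
    Function.Bijective (combo b J (box p)) := by
  constructor
  · rw [← LinearMap.ker_eq_bot, LinearMap.ker_eq_bot']
    intro c hc
    classical
    by_contra hne
    let c' : (ι → ℕ) → k := fun m => if h : m ∈ box p then c ⟨m, h⟩ else 0
    have hex : ∃ n, ∃ m ∈ box p, ∑ i, m i = n ∧ c' m ≠ 0 := by
      obtain ⟨⟨m, hm⟩, hcm⟩ := Function.ne_iff.1 hne
      exact ⟨_, m, hm, rfl, by simpa [c', hm] using hcm⟩
    obtain ⟨m₀, hm₀, hn₀, hc₀⟩ := Nat.find_spec hex
    set n := Nat.find hex
    have hsum : ∑ m ∈ box p, c' m • mono b m ∈ J := by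
      rw [← Ideal.Quotient.eq_zero_iff_mem, ← hc, combo, Fintype.linearCombination_apply,
        ← Ideal.Quotient.mkₐ_eq_mk k, map_sum, ← Finset.sum_coe_sort]
      refine Finset.sum_congr rfl fun m _ => ?_
      rw [map_smul]
      simp [c', m.2]
    have hrest : ∑ m ∈ (box p).filter (fun m => ¬ ∑ i, m i = n), c' m • mono b m ∈ aug k A ^ (n + 1) := by
      refine Submodule.sum_mem _ fun m hm => ?_
      obtain ⟨hm, hne'⟩ := Finset.mem_filter.1 hm
      rcases lt_or_gt_of_ne hne' with h | h
      · have : c' m = 0 := by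
          by_contra h0
          exact Nat.find_min hex h ⟨m, hm, rfl, h0⟩
        rw [this, zero_smul]; exact zero_mem _
      · exact Submodule.smul_of_tower_mem _ _ (Ideal.pow_le_pow_right h (mono_mem_pow b m))
    have hmain : ∑ m ∈ (box p).filter (fun m => ∑ i, m i = n), c' m • mono b m ∈ aug k A ^ (n + 1) ⊔ J := by
      rw [← Finset.sum_filter_add_sum_filter_not (box p) (fun m => ∑ i, m i = n)] at hsum
      have := sub_mem (Submodule.mem_sup_right (S := aug k A ^ (n + 1)) hsum) (Submodule.mem_sup_left hrest)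
      rwa [add_sub_cancel_right] at this
    refine hc₀ (coeff_eq_zero_of_mem b J hJ hDJ n _ ?_ c' hmain m₀ (Finset.mem_filter.2 ⟨hm₀, hn₀⟩))
    intro m hm
    refine ⟨(Finset.mem_filter.1 hm).2, fun i l hl hl0 => ?_⟩
    rw [Ne, CharP.cast_eq_zero_iff k p]
    exact fun hd => absurd (Nat.le_of_dvd (Nat.pos_of_ne_zero hl0) hd)
      (not_le.2 (hl.trans_lt ((mem_box p).1 (Finset.mem_filter.1 hm).1 i)))
  · rw [← LinearMap.range_eq_top, eq_top_iff, range_combo]
    have key : ∀ n, (⊤ : Submodule k A) ≤ monoSpan b ((box p : Finset (ι → ℕ)) : Set (ι → ℕ)) ⊔ J.restrictScalars k ⊔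
        (aug k A ^ n).restrictScalars k := by
      intro n
      induction n with
      | zero => rw [pow_zero, Ideal.one_eq_top]; exact le_sup_of_le_right fun _ _ => trivial
      | succ n ih =>
        refine ih.trans (sup_le le_sup_left ((pow_le_monoSpan_sup b n).trans (sup_le ?_ le_sup_right)))
        rw [Submodule.span_le]
        rintro _ ⟨m, -, rfl⟩
        by_cases hm : m ∈ box p
        · exact Submodule.mem_sup_left (Submodule.mem_sup_left (Submodule.subset_span ⟨m, hm, rfl⟩))
        · rw [mem_box] at hm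
          push Not at hm
          obtain ⟨i, hi⟩ := hm
          refine Submodule.mem_sup_left (Submodule.mem_sup_right ?_)
          show mono b m ∈ J
          exact Ideal.mem_of_dvd _ ((pow_dvd_pow _ hi).trans (Finset.dvd_prod_of_mem _ (Finset.mem_univ i))) (hp i)
    obtain ⟨N, hN⟩ := hN
    intro y _
    obtain ⟨a, rfl⟩ := Ideal.Quotient.mk_surjective y
    have ha := key N (Submodule.mem_top (x := a))
    rw [sup_assoc, sup_eq_left.2 (show (aug k A ^ N).restrictScalars k ≤ J.restrictScalars k from hN)] at ha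
    obtain ⟨s, hs, j, hj, rfl⟩ := Submodule.mem_sup.1 ha
    exact ⟨s, hs, by simp [Ideal.Quotient.eq_zero_iff_mem.2 (show j ∈ J from hj)]⟩

theorem finrank_quot [DecidableEq ι] [Fact p.Prime] [CharP k p] (J : Ideal A) (hJ : J ≤ aug k A)
    (hDJ : ∀ i, ∀ a ∈ J, der b i a ∈ J) (hp : ∀ i, gen b i ^ p ∈ J) (hN : ∃ N, aug k A ^ N ≤ J) :
    Module.finrank k (A ⧸ J) = p ^ Fintype.card ι := by
  rw [← (LinearEquiv.ofBijective _ (combo_box_bijective b p J hJ hDJ hp hN)).finrank_eq,
    Module.finrank_fintype_fun_eq_card]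
  simp [box]

theorem nonempty_algEquiv_truncated [DecidableEq ι] [Fact p.Prime] [CharP k p] (J : Ideal A) (hJ : J ≤ aug k A)
    (hDJ : ∀ i, ∀ a ∈ J, der b i a ∈ J) (hp : ∀ i, gen b i ^ p ∈ J) (hN : ∃ N, aug k A ^ N ≤ J) :
    Nonempty ((A ⧸ J) ≃ₐ[k] (MvPolynomial ι k ⧸
      Ideal.span (Set.range fun i : ι => (MvPolynomial.X i : MvPolynomial ι k) ^ p))) := by
  set P := Ideal.span (Set.range fun i : ι => (MvPolynomial.X i : MvPolynomial ι k) ^ p)
  let Θ : (MvPolynomial ι k ⧸ P) →ₐ[k] A ⧸ J :=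
    Ideal.Quotient.liftₐ P (MvPolynomial.aeval fun i => Ideal.Quotient.mk J (gen b i)) (fun a ha => by
      have : P ≤ RingHom.ker (MvPolynomial.aeval (R := k) fun i => Ideal.Quotient.mk J (gen b i)) := by
        rw [Ideal.span_le]
        rintro _ ⟨i, rfl⟩
        simp only [SetLike.mem_coe, RingHom.mem_ker, map_pow, MvPolynomial.aeval_X]
        rw [← map_pow]
        exact Ideal.Quotient.eq_zero_iff_mem.2 (hp i)
      exact this ha)
  let Ψ : (box (ι := ι) p → k) →ₗ[k] MvPolynomial ι k ⧸ P :=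
    Fintype.linearCombination k fun m => Ideal.Quotient.mk P (∏ i, MvPolynomial.X i ^ m.1 i)
  have hcomp : Θ.toLinearMap ∘ₗ Ψ = combo b J (box p) := by
    refine LinearMap.ext fun c => ?_
    simp only [LinearMap.comp_apply, Ψ, combo, Fintype.linearCombination_apply, map_sum, AlgHom.toLinearMap_apply,
      map_smul]
    refine Finset.sum_congr rfl fun m _ => ?_
    congr 1
    simp [Θ, mono]
  have hΨ : Function.Surjective Ψ := by
    rw [← LinearMap.range_eq_top, Fintype.range_linearCombination, eq_top_iff]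
    intro y _
    obtain ⟨f, rfl⟩ := Ideal.Quotient.mk_surjective y
    induction f using MvPolynomial.induction_on' with
    | add f g hf hg => rw [map_add]; exact add_mem (hf Submodule.mem_top) (hg Submodule.mem_top)
    | monomial m c =>
      rw [show MvPolynomial.monomial m c = c • ∏ i, MvPolynomial.X i ^ m i by
        rw [MvPolynomial.monomial_eq, Finsupp.prod_fintype _ _ (by simp), MvPolynomial.smul_eq_C_mul],
        ← Ideal.Quotient.mkₐ_eq_mk k, map_smul]
      refine Submodule.smul_mem _ _ ?_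
      by_cases hm : ⇑m ∈ box p
      · exact Submodule.subset_span ⟨⟨⇑m, hm⟩, rfl⟩
      · rw [mem_box] at hm
        push Not at hm
        obtain ⟨i, hi⟩ := hm
        have hgen : (MvPolynomial.X i : MvPolynomial ι k) ^ p ∈ P := Ideal.subset_span ⟨i, rfl⟩
        rw [Ideal.Quotient.mkₐ_eq_mk, Ideal.Quotient.eq_zero_iff_mem.2 (Ideal.mem_of_dvd _
          ((pow_dvd_pow _ hi).trans (Finset.dvd_prod_of_mem (fun i => MvPolynomial.X i ^ m i) (Finset.mem_univ i)))
          hgen)]
        exact zero_mem _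
  have hb := combo_box_bijective b p J hJ hDJ hp hN
  rw [← hcomp] at hb
  have hΘ : Function.Bijective Θ := ⟨fun x y hxy => by
      obtain ⟨x, rfl⟩ := hΨ x
      obtain ⟨y, rfl⟩ := hΨ y
      exact congrArg Ψ (hb.1 hxy),
    fun z => (hb.2 z).elim fun c hc => ⟨Ψ c, hc⟩⟩
  exact ⟨(AlgEquiv.ofBijective Θ hΘ).symm⟩

theorem der_pow_char [CharP k p] (i : ι) (a : A) : der b i (a ^ p) = 0 := by
  rw [Derivation.leibniz_pow, ← Nat.cast_smul_eq_nsmul k, CharP.cast_eq_zero, zero_smul]

theorem der_mem_span_pow [CharP k p] (i : ι) {a : A}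
    (ha : a ∈ Ideal.span ((fun a : A => a ^ p) '' (aug k A : Set A))) :
    der b i a ∈ Ideal.span ((fun a : A => a ^ p) '' (aug k A : Set A)) := by
  refine Submodule.span_induction (p := fun z _ => der b i z ∈ Ideal.span ((fun a : A => a ^ p) '' (aug k A : Set A)))
    ?_ (by simp) (fun _ _ _ _ hx hy => by rw [map_add]; exact add_mem hx hy) (fun c z hz hd => ?_) ha
  · rintro _ ⟨y, -, rfl⟩
    show der b i (y ^ p) ∈ _
    rw [der_pow_char]; exact zero_mem _
  · rw [smul_eq_mul, Derivation.leibniz, smul_eq_mul, smul_eq_mul]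
    exact add_mem (Ideal.mul_mem_left _ _ hd) (Ideal.mul_mem_right _ _ hz)

/-- Exponents of a given total degree. -/
def deg [DecidableEq ι] (n : ℕ) : Finset (ι → ℕ) :=
  (Fintype.piFinset fun _ => Finset.range (n + 1)).filter fun m => ∑ i, m i = n

theorem mem_deg [DecidableEq ι] {n : ℕ} {m : ι → ℕ} : m ∈ deg n ↔ ∑ i, m i = n := by
  simp only [deg, Finset.mem_filter, Fintype.mem_piFinset, Finset.mem_range, and_iff_right_iff_imp]
  exact fun h i => Nat.lt_succ_of_le (h ▸ Finset.single_le_sum (fun _ _ => Nat.zero_le _) (Finset.mem_univ i))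

theorem card_deg [DecidableEq ι] (n : ℕ) : (deg (ι := ι) n).card = (Fintype.card ι + n - 1).choose n := by
  rw [← Sym.card_sym_eq_choose, ← Fintype.card_coe]
  let e : ↥(deg (ι := ι) n) ≃ {m : ι → ℕ // ∑ i, m i = n} := Equiv.subtypeEquivRight fun m => mem_deg
  exact Fintype.card_congr (e.trans (Sym.equivNatSumOfFintype ι n).symm)

theorem range_combo_deg [DecidableEq ι] (n : ℕ) :
    LinearMap.range (combo b (aug k A ^ (n + 1)) (deg n)) =
      LinearMap.ker (Ideal.Quotient.factorₐ k (Ideal.pow_le_pow_right (I := aug k A) (Nat.le_succ n))).toLinearMap := by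
  rw [range_combo]
  apply le_antisymm
  · rintro _ ⟨a, ha, rfl⟩
    rw [LinearMap.mem_ker]
    refine Ideal.Quotient.eq_zero_iff_mem.2 ?_
    refine Submodule.span_induction (p := fun z _ => z ∈ aug k A ^ n) ?_ (zero_mem _)
      (fun _ _ _ _ => add_mem) (fun c z _ hz => Submodule.smul_of_tower_mem _ c hz) ha
    rintro _ ⟨m, hm, rfl⟩
    exact mem_deg.1 hm ▸ mono_mem_pow b m
  · intro y hy
    obtain ⟨a, rfl⟩ := Ideal.Quotient.mk_surjective y
    have ha : a ∈ aug k A ^ n := Ideal.Quotient.eq_zero_iff_mem.1 hy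
    obtain ⟨s, hs, j, hj, rfl⟩ := Submodule.mem_sup.1 (pow_le_monoSpan_sup b n ha)
    refine ⟨s, ?_, by simp [Ideal.Quotient.eq_zero_iff_mem.2 (show j ∈ aug k A ^ (n + 1) from hj)]⟩
    have : {m : ι → ℕ | ∑ i, m i = n} = ((deg n : Finset (ι → ℕ)) : Set (ι → ℕ)) := Set.ext fun m => mem_deg.symm
    rwa [← this]

include b in
theorem finite_quot_pow [DecidableEq ι] : ∀ n, Module.Finite k (A ⧸ aug k A ^ n) := by
  intro n
  induction n with
  | zero =>
    have : Subsingleton (A ⧸ aug k A ^ 0) := Ideal.Quotient.subsingleton_iff.2 (by simp)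
    infer_instance
  | succ n ih =>
    set f := (Ideal.Quotient.factorₐ k (Ideal.pow_le_pow_right (I := aug k A) (Nat.le_succ n))).toLinearMap
    have : Module.Finite k (LinearMap.ker f) := by rw [← range_combo_deg b n]; infer_instance
    have : Module.Finite k (_ ⧸ LinearMap.ker f) := Module.Finite.equiv
      (f.quotKerEquivOfSurjective (Ideal.Quotient.factor_surjective (Ideal.pow_le_pow_right (Nat.le_succ n)))).symm
    exact Module.Finite.of_submodule_quotient (LinearMap.ker f)

include b in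
theorem finrank_quot_pow_succ [DecidableEq ι] (n : ℕ) (hn : (n.factorial : k) ≠ 0) :
    Module.finrank k (A ⧸ aug k A ^ (n + 1)) =
      Module.finrank k (A ⧸ aug k A ^ n) + (Fintype.card ι + n - 1).choose n := by
  have := finite_quot_pow b (n + 1)
  set f := (Ideal.Quotient.factorₐ k (Ideal.pow_le_pow_right (I := aug k A) (Nat.le_succ n))).toLinearMap
  rw [← f.finrank_range_add_finrank_ker, LinearMap.range_eq_top.2 (Ideal.Quotient.factor_surjective (Ideal.pow_le_pow_right (Nat.le_succ n))),
    finrank_top, ← range_combo_deg b n, LinearMap.finrank_range_of_inj, Module.finrank_fintype_fun_eq_card,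
    Fintype.card_coe, card_deg]
  rw [← LinearMap.ker_eq_bot, LinearMap.ker_eq_bot']
  intro c hc
  let c' : (ι → ℕ) → k := fun m => if h : m ∈ deg n then c ⟨m, h⟩ else 0
  have hsum : ∑ m ∈ deg n, c' m • mono b m ∈ aug k A ^ (n + 1) := by
    rw [← Ideal.Quotient.eq_zero_iff_mem, ← hc, combo, Fintype.linearCombination_apply,
      ← Ideal.Quotient.mkₐ_eq_mk k, map_sum, ← Finset.sum_coe_sort]
    refine Finset.sum_congr rfl fun m _ => ?_
    rw [map_smul]
    simp [c', m.2]
  funext ⟨m, hm⟩
  have h0 := coeff_eq_zero_of_mem b ⊥ bot_le (fun i a ha => by simp [Ideal.mem_bot.1 ha]) n (deg n) ?_ c'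
    (Submodule.mem_sup_left hsum) m hm
  · simpa [c', hm] using h0
  intro m hm
  refine ⟨mem_deg.1 hm, fun i l hl hl0 h => hn ?_⟩
  have hln : l ≤ n := hl.trans (mem_deg.1 hm ▸ Finset.single_le_sum (fun _ _ => Nat.zero_le _) (Finset.mem_univ i))
  obtain ⟨q, hq⟩ := Nat.dvd_factorial (Nat.pos_of_ne_zero hl0) hln
  rw [hq, Nat.cast_mul, h, zero_mul]

end Groth.Agent.TruncPoly23
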