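import Mathlib.RingTheory.HopfAlgebra.Basic
import Mathlib.RingTheory.Bialgebra.Hom
import Mathlib.RingTheory.Ideal.Cotangent
import Mathlib.RingTheory.Derivation.Basic
import Mathlib.RingTheory.Noetherian.Nilpotent
import Mathlib.LinearAlgebra.Dimension.Constructions
import Mathlib.Algebra.Algebra.Bilinear

/-!
# Invariant derivations and monomials in a basis of the cotangent space at the unit

`linearIndependent_mono_mod`: monomials in lifts of a cotangent basis are independent modulo
`I ^ (n + 1) ⊔ J`, as long as the exponents are invertible and `J` is stable under the derivations.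
-/

universe u v w

open TensorProduct

noncomputable section

namespace Groth.Agent.TruncPoly23

variable {k : Type u} [Field k] {A : Type v} [CommRing A] [Bialgebra k A]

/-- The augmentation ideal. -/
abbrev aug (k : Type u) [Field k] (A : Type v) [CommRing A] [Bialgebra k A] : Ideal A :=
  RingHom.ker (Bialgebra.counitAlgHom k A)

theorem sub_counit_mem (a : A) : a - algebraMap k A (Bialgebra.counitAlgHom k A a) ∈ aug k A := by
  rw [RingHom.mem_ker, map_sub, AlgHom.commutes]
  simp

/-- The projection to the cotangent space. -/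
def proj : A →ₗ[k] (aug k A).Cotangent :=
  ((aug k A).toCotangent.restrictScalars k) ∘ₗ
    LinearMap.codRestrict ((aug k A).restrictScalars k)
      (LinearMap.id - Algebra.linearMap k A ∘ₗ (Bialgebra.counitAlgHom k A).toLinearMap) sub_counit_mem

theorem proj_apply (a : A) :
    proj (k := k) a = (aug k A).toCotangent ⟨_, sub_counit_mem a⟩ := rfl

theorem proj_of_mem {a : A} (ha : a ∈ aug k A) : proj (k := k) a = (aug k A).toCotangent ⟨a, ha⟩ := by
  rw [proj_apply]; congr 1; apply Subtype.ext
  show a - algebraMap k A (Bialgebra.counitAlgHom k A a) = a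
  rw [show Bialgebra.counitAlgHom k A a = 0 from ha, map_zero, sub_zero]

theorem proj_mul (a b : A) : proj (k := k) (a * b) =
    Bialgebra.counitAlgHom k A a • proj (k := k) b + Bialgebra.counitAlgHom k A b • proj (k := k) a := by
  set e := Bialgebra.counitAlgHom k A
  have h0 : proj (k := k) ((a - algebraMap k A (e a)) * (b - algebraMap k A (e b))) = 0 := by
    rw [proj_of_mem (Ideal.mul_mem_left _ _ (sub_counit_mem b)), Ideal.toCotangent_eq_zero, pow_two]
    exact Ideal.mul_mem_mul (sub_counit_mem a) (sub_counit_mem b)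
  have h1 : proj (k := k) (1 : A) = 0 := by
    rw [proj_apply, Ideal.toCotangent_eq_zero]
    simp
  have heq : a * b = (a - algebraMap k A (e a)) * (b - algebraMap k A (e b)) + e a • b + e b • a
      - (e a * e b) • (1 : A) := by
    simp only [Algebra.smul_def, map_mul]; ring
  rw [heq, map_sub, map_add, map_add, h0, map_smul, map_smul, map_smul, h1, smul_zero, sub_zero, zero_add]

variable {ι : Type w} (b : Module.Basis ι k (aug k A).Cotangent)

/-- Chosen lifts of the basis. -/
def gen (i : ι) : A := ((aug k A).toCotangent_surjective (b i)).choose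

theorem gen_mem (i : ι) : gen b i ∈ aug k A := ((aug k A).toCotangent_surjective (b i)).choose.2

theorem proj_gen (i : ι) : proj (k := k) (gen b i) = b i := by
  rw [proj_of_mem (gen_mem b i)]
  exact ((aug k A).toCotangent_surjective (b i)).choose_spec

/-- The point derivation dual to a basis vector. -/
def tan (i : ι) : A →ₗ[k] k := b.coord i ∘ₗ proj (k := k)

theorem tan_mul (i : ι) (a c : A) : tan b i (a * c) =
    Bialgebra.counitAlgHom k A a * tan b i c + Bialgebra.counitAlgHom k A c * tan b i a := by
  simp [tan, proj_mul, -Bialgebra.counitAlgHom_apply]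

/-- Right slice with the tangent vector. -/
def slice (i : ι) : A ⊗[k] A →ₗ[k] A := (TensorProduct.rid k A).toLinearMap ∘ₗ (tan b i).lTensor A

def eps : A ⊗[k] A →ₗ[k] A :=
  (TensorProduct.rid k A).toLinearMap ∘ₗ (CoalgebraStruct.counit (R := k) (A := A)).lTensor A

theorem slice_mul (i : ι) (z z' : A ⊗[k] A) :
    slice b i (z * z') = eps z * slice b i z' + eps z' * slice b i z := by
  induction z with
  | zero => simp
  | add p q hp hq => simp only [add_mul, map_add, hp, hq, mul_add, add_mul]; abel
  | tmul p q =>
    induction z' with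
    | zero => simp
    | add r s hr hs => simp only [mul_add, map_add, hr, hs, add_mul]; abel
    | tmul r s =>
      simp only [slice, eps, Algebra.TensorProduct.tmul_mul_tmul, LinearMap.comp_apply, LinearMap.lTensor_tmul,
        LinearEquiv.coe_coe, TensorProduct.rid_tmul, tan_mul, Bialgebra.counitAlgHom_apply]
      simp only [Algebra.smul_def, map_add, map_mul]
      ring

theorem eps_comul (a : A) : eps (Coalgebra.comul (R := k) a) = a := by
  show TensorProduct.rid k A ((CoalgebraStruct.counit (R := k)).lTensor A _) = a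
  rw [Coalgebra.lTensor_counit_comul, TensorProduct.rid_tmul, one_smul]

/-- The invariant derivation with a given value at the unit. -/
def der (i : ι) : Derivation k A A :=
  Derivation.mk' (slice b i ∘ₗ Coalgebra.comul) fun a c => by
    simp only [LinearMap.comp_apply, Bialgebra.comul_mul, slice_mul, eps_comul, smul_eq_mul]

theorem counit_der (i : ι) (a : A) : Bialgebra.counitAlgHom k A (der b i a) = tan b i a := by
  have h : ∀ z : A ⊗[k] A, Bialgebra.counitAlgHom k A (slice b i z) =
      tan b i (TensorProduct.lid k A ((CoalgebraStruct.counit (R := k)).rTensor A z)) := by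
    intro z
    induction z with
    | zero => simp
    | add p q hp hq => simp only [map_add, hp, hq]
    | tmul p q => simp [slice, mul_comm]
  show Bialgebra.counitAlgHom k A (slice b i (Coalgebra.comul a)) = _
  rw [h, Coalgebra.rTensor_counit_comul, TensorProduct.lid_tmul, one_smul]

theorem der_gen_sub_mem [DecidableEq ι] (i j : ι) :
    der b i (gen b j) - (if i = j then 1 else 0) ∈ aug k A := by
  rw [RingHom.mem_ker, map_sub, counit_der]
  simp only [tan, LinearMap.comp_apply, proj_gen, Module.Basis.coord_apply, Module.Basis.repr_self]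
  rcases eq_or_ne i j with rfl | h
  · simp
  · simp [h, Finsupp.single_apply, Ne.symm h]

theorem der_mem_pow (i : ι) : ∀ (n : ℕ) (a : A), a ∈ aug k A ^ (n + 1) → der b i a ∈ aug k A ^ n := by
  intro n
  induction n with
  | zero => intro a _; simp
  | succ n ih =>
    intro a ha
    rw [pow_succ] at ha
    refine Submodule.mul_induction_on ha (fun x hx y hy => ?_) fun x y hx hy => by
      rw [map_add]; exact add_mem hx hy
    rw [Derivation.leibniz, smul_eq_mul, smul_eq_mul]
    refine add_mem (Ideal.mul_mem_right _ _ hx) ?_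
    rw [pow_succ', ← smul_eq_mul]
    exact Ideal.mul_mem_mul hy (ih x hx)

variable [Fintype ι]

/-- The monomial with given exponents. -/
def mono (m : ι → ℕ) : A := ∏ i, gen b i ^ m i

theorem mono_mem_pow (m : ι → ℕ) : mono b m ∈ aug k A ^ ∑ i, m i := by
  rw [← Finset.prod_pow_eq_pow_sum]
  exact Ideal.prod_mem_prod fun i _ => Ideal.pow_mem_pow (gen_mem b i) _

theorem mono_add_single [DecidableEq ι] (m : ι → ℕ) (i : ι) :
    mono b (Function.update m i (m i + 1)) = gen b i * mono b m := by
  rw [mono, mono, ← Finset.mul_prod_erase _ _ (Finset.mem_univ i),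
    ← Finset.mul_prod_erase _ _ (Finset.mem_univ i), Function.update_self, pow_succ', mul_assoc]
  congr 2
  exact Finset.prod_congr rfl fun j hj => by rw [Function.update_of_ne (Finset.ne_of_mem_erase hj)]

theorem sum_update_add [DecidableEq ι] (m : ι → ℕ) (i : ι) (v : ℕ) :
    (∑ l, Function.update m i v l) + m i = (∑ l, m l) + v := by
  rw [Finset.sum_update_of_mem (Finset.mem_univ i), ← Finset.add_sum_erase _ m (Finset.mem_univ i),
    Finset.sdiff_singleton_eq_erase]
  ring

theorem der_mono [DecidableEq ι] (i : ι) : ∀ (n : ℕ) (m : ι → ℕ), ∑ j, m j = n + 1 →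
    der b i (mono b m) - m i • mono b (Function.update m i (m i - 1)) ∈ aug k A ^ (n + 1) := by
  intro n
  induction n with
  | zero =>
    intro m hm
    obtain ⟨j, -, hj⟩ := Finset.exists_ne_zero_of_sum_ne_zero (hm.trans_ne (Nat.succ_ne_zero 0))
    have hs := Finset.add_sum_erase _ m (Finset.mem_univ j)
    have hj1 : m j = 1 := by omega
    have hz : ∀ l, l ≠ j → m l = 0 := fun l hl => by
      have := Finset.single_le_sum (f := m) (fun _ _ => Nat.zero_le _) (Finset.mem_erase.2 ⟨hl, Finset.mem_univ l⟩)
      omega
    have hmono : mono b m = gen b j := by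
      rw [mono, ← Finset.mul_prod_erase _ _ (Finset.mem_univ j), hj1, pow_one, Finset.prod_eq_one, mul_one]
      intro l hl; rw [hz l (Finset.ne_of_mem_erase hl), pow_zero]
    rw [hmono, zero_add, pow_one]
    rcases eq_or_ne i j with rfl | hij
    · have : Function.update m i (m i - 1) = 0 := by
        funext l; rcases eq_or_ne l i with rfl | hl <;> simp [*]
      have h0 := der_gen_sub_mem b i i
      rw [if_pos rfl] at h0
      rw [this, hj1, one_smul, show mono b (0 : ι → ℕ) = 1 by simp [mono]]
      exact h0
    · have h0 := der_gen_sub_mem b i j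
      rw [if_neg hij] at h0
      simpa [hz i hij] using h0
  | succ n ih =>
    intro m hm
    obtain ⟨j, -, hj⟩ := Finset.exists_ne_zero_of_sum_ne_zero (hm.trans_ne (Nat.succ_ne_zero (n + 1)))
    obtain ⟨m', rfl, hm'⟩ : ∃ m', m = Function.update m' j (m' j + 1) ∧ ∑ l, m' l = n + 1 := by
      refine ⟨Function.update m j (m j - 1), ?_, ?_⟩
      · rw [Function.update_idem, Function.update_self, Nat.sub_add_cancel (Nat.pos_of_ne_zero hj),
          Function.update_eq_self]
      · have := sum_update_add m j (m j - 1)
        omega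
    rw [mono_add_single, Derivation.leibniz, smul_eq_mul, smul_eq_mul]
    have hA : gen b j * (der b i (mono b m') - m' i • mono b (Function.update m' i (m' i - 1))) ∈
        aug k A ^ (n + 1 + 1) := by
      rw [pow_succ']; exact Ideal.mul_mem_mul (gen_mem b j) (ih m' hm')
    have hB : mono b m' * (der b i (gen b j) - (if i = j then 1 else 0)) ∈ aug k A ^ (n + 1 + 1) := by
      rw [pow_succ (aug k A) (n + 1)]
      exact Ideal.mul_mem_mul (hm' ▸ mono_mem_pow b m') (der_gen_sub_mem b i j)
    convert add_mem hA hB using 1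
    rcases eq_or_ne i j with rfl | hij
    · rw [if_pos rfl, Function.update_self, Function.update_idem, Nat.add_sub_cancel, Function.update_eq_self]
      rcases Nat.eq_zero_or_pos (m' i) with h0 | h0
      · simp only [h0, zero_smul, sub_zero, zero_add, one_smul]; ring
      · have : gen b i * mono b (Function.update m' i (m' i - 1)) = mono b m' := by
          rw [← mono_add_single, Function.update_idem, Function.update_self, Nat.sub_add_cancel h0,
            Function.update_eq_self]
        rw [mul_sub, mul_smul_comm, this, add_smul, one_smul]; ring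
    · rw [if_neg hij, Function.update_of_ne hij]
      have : gen b j * mono b (Function.update m' i (m' i - 1)) =
          mono b (Function.update (Function.update m' i (m' i - 1)) j (m' j + 1)) := by
        rw [← mono_add_single, Function.update_of_ne (Ne.symm hij)]
      rw [mul_sub, mul_smul_comm, this, Function.update_comm hij]; ring

/-- Monomials of a fixed degree are independent modulo higher powers and a stable ideal. -/
theorem coeff_eq_zero_of_mem (J : Ideal A) (hJ : J ≤ aug k A) (hDJ : ∀ i, ∀ a ∈ J, der b i a ∈ J) :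
    ∀ (n : ℕ) (s : Finset (ι → ℕ)),
      (∀ m ∈ s, ∑ i, m i = n ∧ ∀ i, ∀ l ≤ m i, l ≠ 0 → (l : k) ≠ 0) →
      ∀ c : (ι → ℕ) → k, ∑ m ∈ s, c m • mono b m ∈ aug k A ^ (n + 1) ⊔ J → ∀ m ∈ s, c m = 0 := by
  classical
  intro n
  induction n with
  | zero =>
    intro s hs c hc m hm
    have hz : ∀ m ∈ s, m = 0 := fun m hm => funext fun i => Finset.sum_eq_zero_iff.1 (hs m hm).1 i (Finset.mem_univ i)
    obtain rfl : s = {0} := Finset.eq_singleton_iff_unique_mem.2 ⟨hz m hm ▸ hm, hz⟩
    rw [Finset.sum_singleton, zero_add, pow_one, sup_eq_left.2 hJ] at hc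
    rw [RingHom.mem_ker, map_smul] at hc
    have hm0 : m = 0 := hz m hm
    subst hm0
    simpa [mono] using hc
  | succ n ih =>
    intro s hs c hc m hm
    obtain ⟨i, -, hi⟩ := Finset.exists_ne_zero_of_sum_ne_zero ((hs m hm).1.trans_ne (Nat.succ_ne_zero n))
    obtain ⟨p, hp, q, hq, hpq⟩ := Submodule.mem_sup.1 hc
    have h1 : der b i (∑ m ∈ s, c m • mono b m) ∈ aug k A ^ (n + 1) ⊔ J := by
      rw [← hpq, map_add]
      exact Submodule.add_mem_sup (der_mem_pow b i _ _ hp) (hDJ i _ hq)
    let f : (ι → ℕ) → (ι → ℕ) := fun m => Function.update m i (m i - 1)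
    have h2 : ∑ m ∈ s, (c m * (m i : k)) • mono b (f m) ∈ aug k A ^ (n + 1) ⊔ J := by
      have h3 : ∑ m ∈ s, c m • (der b i (mono b m) - m i • mono b (f m)) ∈ aug k A ^ (n + 1) :=
        Submodule.sum_mem _ fun m hm => Submodule.smul_of_tower_mem _ _ (der_mono b i n m (hs m hm).1)
      have h4 := sub_mem h1 (Submodule.mem_sup_left h3)
      simp only [map_sum, map_smul, smul_sub, Finset.sum_sub_distrib, sub_sub_cancel] at h4
      simpa [mul_smul, Nat.cast_smul_eq_nsmul] using h4
    let g : (ι → ℕ) → (ι → ℕ) := fun m => Function.update m i (m i + 1)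
    have hgf : ∀ m ∈ s.filter (fun m => m i ≠ 0), g (f m) = m := fun m hm => by
      simp only [g, f, Function.update_idem, Function.update_self]
      rw [Nat.sub_add_cancel (Nat.pos_of_ne_zero (Finset.mem_filter.1 hm).2), Function.update_eq_self]
    have hinj : Set.InjOn f (s.filter fun m => m i ≠ 0) := fun a ha a' ha' e => by
      rw [← hgf a ha, ← hgf a' ha', e]
    have h5 := ih ((s.filter fun m => m i ≠ 0).image f) (fun m' hm' => by
      obtain ⟨m₀, hm₀, rfl⟩ := Finset.mem_image.1 hm'
      obtain ⟨hms, hne⟩ := Finset.mem_filter.1 hm₀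
      refine ⟨?_, fun j l hl => (hs m₀ hms).2 j l (hl.trans ?_)⟩
      · have := sum_update_add m₀ i (m₀ i - 1)
        have := (hs m₀ hms).1
        show ∑ l, Function.update m₀ i (m₀ i - 1) l = n
        omega
      · rcases eq_or_ne j i with rfl | hj <;> simp [f, *])
      (fun m' => c (g m') * ((g m') i : k)) (by
        rw [Finset.sum_image hinj, Finset.sum_congr rfl fun m hm => by rw [hgf m hm]]
        have h7 : ∑ m ∈ s.filter (fun m => m i ≠ 0), (c m * (m i : k)) • mono b (f m) =
            ∑ m ∈ s, (c m * (m i : k)) • mono b (f m) :=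
          Finset.sum_filter_of_ne fun m _ hne h0 => hne (by rw [h0, Nat.cast_zero, mul_zero, zero_smul])
        rwa [h7])
    have h6 := h5 (f m) (Finset.mem_image_of_mem f (Finset.mem_filter.2 ⟨hm, hi⟩))
    rw [show g (f m) = m from hgf m (Finset.mem_filter.2 ⟨hm, hi⟩)] at h6
    exact (mul_eq_zero.1 h6).resolve_right ((hs m hm).2 i _ le_rfl hi)

/-- The `k`-span of the monomials in a given set of exponents. -/
abbrev monoSpan (S : Set (ι → ℕ)) : Submodule k A := Submodule.span k (mono b '' S)

theorem pow_le_monoSpan_sup (n : ℕ) :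
    (aug k A ^ n).restrictScalars k ≤ monoSpan b {m | ∑ i, m i = n} ⊔ (aug k A ^ (n + 1)).restrictScalars k := by
  classical
  induction n with
  | zero =>
    intro a _
    refine Submodule.mem_sup.2 ⟨Bialgebra.counitAlgHom k A a • (1 : A), ?_, a - algebraMap k A (Bialgebra.counitAlgHom k A a), ?_, ?_⟩
    · exact Submodule.smul_mem _ _ (Submodule.subset_span ⟨0, by simp, by simp [mono]⟩)
    · show _ ∈ aug k A ^ (0 + 1); rw [zero_add, pow_one]; exact sub_counit_mem a
    · rw [← Algebra.algebraMap_eq_smul_one]; abel
  | succ n ih =>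
    intro a ha
    change a ∈ aug k A ^ (n + 1) at ha
    rw [pow_succ] at ha
    refine Submodule.mul_induction_on ha (fun x hx y hy => ?_) fun x y hx hy => add_mem hx hy
    obtain ⟨u, hu, x', hx', rfl⟩ := Submodule.mem_sup.1 (ih hx)
    have hy' : y - ∑ i, b.repr (proj (k := k) y) i • gen b i ∈ aug k A ^ 2 := by
      have hmem : y - ∑ i, b.repr (proj (k := k) y) i • gen b i ∈ aug k A :=
        sub_mem hy (Submodule.sum_mem _ fun i _ => Submodule.smul_of_tower_mem _ _ (gen_mem b i))
      rw [← Ideal.toCotangent_eq_zero _ ⟨_, hmem⟩, ← proj_of_mem hmem, map_sub, map_sum]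
      simp only [map_smul, proj_gen, b.sum_repr, sub_self]
    rw [add_mul]
    refine add_mem ?_ (Submodule.mem_sup_right (show x' * y ∈ aug k A ^ (n + 1 + 1) by
      rw [pow_succ]; exact Ideal.mul_mem_mul hx' hy))
    rw [show u * y = u * (y - ∑ i, b.repr (proj (k := k) y) i • gen b i) +
      ∑ i, b.repr (proj (k := k) y) i • (gen b i * u) by
        rw [mul_sub, Finset.mul_sum]; simp [mul_smul_comm, mul_comm (gen b _) u]]
    refine add_mem (Submodule.mem_sup_right (show _ ∈ aug k A ^ (n + 1 + 1) from ?_))
      (Submodule.sum_mem _ fun i _ => Submodule.smul_mem _ _ (Submodule.mem_sup_left ?_))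
    · have hu' : u ∈ aug k A ^ n := by
        refine Submodule.span_induction (p := fun z _ => z ∈ aug k A ^ n) ?_ (zero_mem _)
          (fun _ _ _ _ => add_mem) (fun c z _ hz => Submodule.smul_of_tower_mem _ c hz) hu
        rintro _ ⟨m, hm, rfl⟩
        exact (show ∑ i, m i = n from hm) ▸ mono_mem_pow b m
      rw [show n + 1 + 1 = n + 2 from rfl, pow_add]
      exact Ideal.mul_mem_mul hu' hy'
    · refine Submodule.span_induction (p := fun z _ => gen b i * z ∈ monoSpan b {m | ∑ i, m i = n + 1})
        ?_ (by simp) (fun _ _ _ _ hp hq => by rw [mul_add]; exact add_mem hp hq)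
        (fun c z _ hz => by rw [mul_smul_comm]; exact Submodule.smul_mem _ _ hz) hu
      rintro _ ⟨m, hm, rfl⟩
      refine Submodule.subset_span ⟨Function.update m i (m i + 1), ?_, mono_add_single b m i⟩
      show ∑ l, Function.update m i (m i + 1) l = n + 1
      have := sum_update_add m i (m i + 1)
      have : ∑ i, m i = n := hm
      omega

end Groth.Agent.TruncPoly23
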